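import Groth.Agent.PicRootLib.Roots
import Groth.Agent.AmpleLib.Extend
import Groth.Agent.AmpleEmb.ComposeRel
import Groth.Agent.AmpleEmb.Inverse
import Groth.Prelude.Def_Pic

/-! Torsion invertible modules of order invertible lift through thickenings. -/

set_option autoImplicit false
set_option linter.style.haveILetI false
set_option backward.isDefEq.respectTransparency false
universe u

open AlgebraicGeometry CategoryTheory TopologicalSpace Opposite
open Groth.Agent.ParaFLib Groth.Agent.AmpleLib Groth.Agent.PullbackMod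

noncomputable section

namespace Groth.Agent.PicRootLib

theorem gen_iso {X : Scheme.{u}} {M N : X.Modules} (φ : M ≅ N) {W : X.Opens} {s : Γ(M, W)} (hs : Gen W s) :
    Gen W (φ.hom.app W s) := fun O hO => by
  have : (fun r : Γ(X, O) => r • N.presheaf.map (homOfLE hO).op (φ.hom.app W s)) =
      (φ.hom.app O : Γ(M, O) → Γ(N, O)) ∘ fun r : Γ(X, O) => r • M.presheaf.map (homOfLE hO).op s := funext fun r =>
    ((congrArg (r • ·) (DCohLib.app_natural φ.hom hO s).symm).trans
      (Scheme.Modules.Hom.app_smul φ.hom r (M.presheaf.map (homOfLE hO).op s)).symm)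
  rw [this]
  exact (ConcreteCategory.bijective_of_isIso (φ.hom.app O)).comp (hs O hO)

variable {X X' : Scheme.{u}} (i : X ⟶ X') [IsClosedImmersion i] [Surjective i]

theorem exists_lift_torsion {n : ℕ} (hu : IsUnit (n : Γ(X, ⊤))) {L : X.Modules} (hL : PicF.IsInvertible L)
    (φ : CohB1.tensorPow L n ≅ Coh.structureModule X) :
    ∃ L' : X'.Modules, PicF.IsInvertible L' ∧ Nonempty (CohB1.tensorPow L' n ≅ Coh.structureModule X') ∧
      Nonempty ((Scheme.Modules.pullback i).obj L' ≅ L) := by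
  classical
  -- affine opens of the target over whose preimage `L` is free
  have loc : ∀ x : X, ∃ (V : X'.Opens) (e : Γ(L, i ⁻¹ᵁ V)), IsAffineOpen V ∧ i x ∈ V ∧ Gen (i ⁻¹ᵁ V) e := by
    intro x
    obtain ⟨W, e, hxW, he⟩ := exists_gen_nhd hL x
    obtain ⟨A, hA, hAW⟩ := i.isClosedEmbedding.isInducing.isOpen_iff.mp W.2
    obtain ⟨V, hV, hxV, hle⟩ := exists_isAffineOpen_mem_and_subset (U := (⟨A, hA⟩ : X'.Opens))
      (show i x ∈ A from (hAW ▸ hxW : x ∈ i ⁻¹' A))
    have hle' : i ⁻¹ᵁ V ≤ W := fun y hy => hAW.subset (hle hy : y ∈ i ⁻¹' A)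
    exact ⟨V, _, hV, hxV, he.res hle'⟩
  choose V e hV hxV he using loc
  let U : X → X.Opens := fun x => i ⁻¹ᵁ V x
  have hU : iSup U = ⊤ := eq_top_iff.2 fun x _ => Opens.mem_iSup.2 ⟨x, hxV x⟩
  have hV' : iSup V = ⊤ := eq_top_iff.2 fun y _ => by
    obtain ⟨x, rfl⟩ := i.surjective y
    exact Opens.mem_iSup.2 ⟨x, hxV x⟩
  -- the trivialisation on the bases
  have hh : ∀ x : X, ∃ h : Γ(X, U x), IsUnit h ∧ h • (show Γ(Coh.structureModule X, U x) from (1 : Γ(X, U x))) =
      φ.hom.app (U x) (powLoc (e x) n) := fun x =>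
    (gen_iso φ (gen_powLoc (he x) n)).exists_unit (gen_one (U x))
  choose h hhu hh using hh
  choose h' hh'u hh' using fun x => exists_unit_lift i (hV x) (hhu x)
  -- transition functions
  have hη : ∀ x y : X, ∃ a : Γ(X, U x ⊓ U y), IsUnit a ∧
      a • L.presheaf.map (homOfLE (inf_le_right : U x ⊓ U y ≤ U y)).op (e y) =
        L.presheaf.map (homOfLE (inf_le_left : U x ⊓ U y ≤ U x)).op (e x) := fun x y =>
    ((he x).res inf_le_left).exists_unit ((he y).res (inf_le_right : U x ⊓ U y ≤ U y))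
  choose η hηu hη using hη
  let r' : ∀ x y : X, Γ(X', V x) → Γ(X', V x ⊓ V y) := fun x y => X'.presheaf.map (homOfLE inf_le_left).op
  have hpow : ∀ x y : X, X.presheaf.map (homOfLE (inf_le_left : U x ⊓ U y ≤ U x)).op (h x) =
      (η x y) ^ n * X.presheaf.map (homOfLE (inf_le_right : U x ⊓ U y ≤ U y)).op (h y) := by
    intro x y
    have one_res : ∀ {A B : X.Opens} (hAB : B ≤ A), (Coh.structureModule X).presheaf.map (homOfLE hAB).op
        (show Γ(Coh.structureModule X, A) from (1 : Γ(X, A))) = (1 : Γ(X, B)) :=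
      fun hAB => map_one (X.presheaf.map (homOfLE hAB).op).hom
    have e1 := congrArg ((Coh.structureModule X).presheaf.map (homOfLE (inf_le_left : U x ⊓ U y ≤ U x)).op) (hh x)
    have e2 := congrArg ((Coh.structureModule X).presheaf.map (homOfLE (inf_le_right : U x ⊓ U y ≤ U y)).op) (hh y)
    rw [(Coh.structureModule X).map_smul, one_res, ← DCohLib.app_natural, powLoc_res] at e1 e2
    rw [← hη x y, powLoc_smul] at e1
    have inj : Function.Injective fun r : Γ(X, U x ⊓ U y) =>
        r • (show Γ(Coh.structureModule X, U x ⊓ U y) from (1 : Γ(X, U x ⊓ U y))) := by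
      have := (gen_one (X := X) (U x ⊓ U y) (U x ⊓ U y) le_rfl).1
      simpa only [one_res] using this
    refine inj ?_
    refine e1.trans ?_
    rw [Scheme.Modules.Hom.app_smul, ← e2]
    exact (mul_smul _ _ _).symm
  -- lifted transition functions
  have hθ : ∀ x y : X, ∃ a : Γ(X', V x ⊓ V y), IsUnit a ∧ i.app (V x ⊓ V y) a = (show Γ(X, i ⁻¹ᵁ (V x ⊓ V y)) from η x y) ∧
      a ^ n * X'.presheaf.map (homOfLE (inf_le_right : V x ⊓ V y ≤ V y)).op (h' y) =
        X'.presheaf.map (homOfLE (inf_le_left : V x ⊓ V y ≤ V x)).op (h' x) := by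
    intro x y
    obtain ⟨u, hu'⟩ := (hh'u y).map (X'.presheaf.map (homOfLE (inf_le_right : V x ⊓ V y ≤ V y)).op).hom
    obtain ⟨a, ha, hac, hap⟩ := exists_root i hu (c := (show Γ(X, i ⁻¹ᵁ (V x ⊓ V y)) from η x y)) (hηu x y)
      (X'.presheaf.map (homOfLE (inf_le_left : V x ⊓ V y ≤ V x)).op (h' x) * (↑u⁻¹ : Γ(X', V x ⊓ V y))) (by
        have key : i.app (V x ⊓ V y) (↑u : Γ(X', V x ⊓ V y)) =
            X.presheaf.map (homOfLE (inf_le_right : U x ⊓ U y ≤ U y)).op (h y) := by
          rw [hu', app_res, hh']; rfl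
        rw [map_mul, app_res, hh']
        erw [hpow x y]
        rw [← key, mul_assoc, ← map_mul, Units.mul_inv, map_one, mul_one])
    refine ⟨a, ha, hac, ?_⟩
    rw [hap, ← hu', mul_assoc, Units.inv_mul, mul_one]
  choose θ hθu hθc hθp using hθ
  have hc : IsCocycle V fun x y => (hθu x y).unit := by
    intro x y z
    let T := V x ⊓ V y ⊓ V z
    have hxz : T ≤ V x ⊓ V z := inf_le_inf_right (V z) inf_le_left
    have hxy : T ≤ V x ⊓ V y := inf_le_left
    have hyz : T ≤ V y ⊓ V z := inf_le_inf_right (V z) inf_le_right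
    refine root_unique i hu ((hθu x z).map (X'.presheaf.map (homOfLE hxz).op).hom) ?_ ?_
    · rw [map_mul, app_res, app_res, app_res, IsUnit.unit_spec, IsUnit.unit_spec, IsUnit.unit_spec, hθc, hθc, hθc]
      refine (((he z).res (show i ⁻¹ᵁ T ≤ U z from fun p hp => hp.2)) (i ⁻¹ᵁ T) le_rfl).1 ?_
      simp only [res_self', mul_smul]
      have e1 := congrArg (L.presheaf.map (homOfLE (i.preimage_mono hxz : i ⁻¹ᵁ T ≤ U x ⊓ U z)).op) (hη x z)
      have e2 := congrArg (L.presheaf.map (homOfLE (i.preimage_mono hxy : i ⁻¹ᵁ T ≤ U x ⊓ U y)).op) (hη x y)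
      have e3 := congrArg (L.presheaf.map (homOfLE (i.preimage_mono hyz : i ⁻¹ᵁ T ≤ U y ⊓ U z)).op) (hη y z)
      erw [L.map_smul, ParaFLib.res_res, ParaFLib.res_res] at e1 e2 e3
      erw [e1, ← e2, e3]
    · obtain ⟨u, hu'⟩ := (hh'u z).map (X'.presheaf.map (homOfLE (show T ≤ V z from fun p hp => hp.2)).op).hom
      have e1 := congrArg (X'.presheaf.map (homOfLE hxz).op) (hθp x z)
      have e2 := congrArg (X'.presheaf.map (homOfLE hxy).op) (hθp x y)
      have e3 := congrArg (X'.presheaf.map (homOfLE hyz).op) (hθp y z)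
      simp only [map_mul, map_pow, ← ConcreteCategory.comp_apply, ← Functor.map_comp] at e1 e2 e3
      simp only [IsUnit.unit_spec, mul_pow]
      refine u.isUnit.mul_left_injective ?_
      dsimp only
      rw [hu', mul_assoc]
      erw [e1, e3, e2]
      rfl
  obtain ⟨L', s, hL', hs, hsθ⟩ := exists_invertible_of_cocycle V _ hV' hc
  refine ⟨L', hL', nonempty_iso_of_bases hV' (L := CohB1.tensorPow L' n) (L' := Coh.structureModule X')
    (s := fun x => powLoc (s x) n) (t := fun x => h' x • (show Γ(Coh.structureModule X', V x) from (1 : Γ(X', V x))))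
    (fun x => gen_powLoc (hs x) n) (fun x => (gen_one (V x)).smul (hh'u x)) (fun x y => θ x y ^ n)
    (fun x y => ?_) (fun x y => ?_), ?_⟩
  · rw [powLoc_res, powLoc_res, hsθ x y, powLoc_smul]
    rfl
  · have one_res : ∀ {A B : X'.Opens} (hAB : B ≤ A), (Coh.structureModule X').presheaf.map (homOfLE hAB).op
        (show Γ(Coh.structureModule X', A) from (1 : Γ(X', A))) = (1 : Γ(X', B)) :=
      fun hAB => map_one (X'.presheaf.map (homOfLE hAB).op).hom
    rw [(Coh.structureModule X').map_smul, (Coh.structureModule X').map_smul, one_res, one_res, ← mul_smul, hθp]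
  refine nonempty_iso_of_bases hU (L := (Scheme.Modules.pullback i).obj L') (L' := L)
    (s := fun x => pullMap i L' le_rfl (s x)) (t := e)
    (fun x => AmpleEmb.gen_pullMap i hL' (hs x)) he η (fun x y => ?_) (fun x y => (hη x y).symm)
  rw [pullMap_res i L' _ inf_le_left inf_le_left (le_rfl : U x ⊓ U y ≤ i ⁻¹ᵁ (V x ⊓ V y)),
    pullMap_res i L' _ inf_le_right inf_le_right (le_rfl : U x ⊓ U y ≤ i ⁻¹ᵁ (V x ⊓ V y)), hsθ x y, pullMap_smul]
  congr 1
  rw [IsUnit.unit_spec]
  refine Eq.trans ?_ (hθc x y)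
  rw [Scheme.Hom.app_eq_appLE]
  rfl

end Groth.Agent.PicRootLib
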