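import Mathlib

/-! Roots of units of order invertible lift uniquely through thickenings. -/

set_option autoImplicit false
universe u

open AlgebraicGeometry CategoryTheory TopologicalSpace Opposite

namespace Groth.Agent.PicRootLib

variable {X X' : Scheme.{u}} (i : X ⟶ X')

theorem preimage_injective [Surjective i] {A B : X'.Opens} (h : i ⁻¹ᵁ A = i ⁻¹ᵁ B) : A = B :=
  Opens.ext (i.surjective.preimage_injective (congrArg (SetLike.coe : X.Opens → Set X) h))

theorem isUnit_of_app [Surjective i] {V : X'.Opens} {a : Γ(X', V)} (ha : IsUnit (i.app V a)) : IsUnit a := by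
  have hb : X'.basicOpen a = V := preimage_injective i (by
    rw [i.preimage_basicOpen a, X.basicOpen_of_isUnit ha])
  have := RingedSpace.isUnit_res_basicOpen X'.toSheafedSpace a
  refine RingedSpace.isUnit_of_isUnit_germ X'.toSheafedSpace V a fun x hx => ?_
  exact (X'.mem_basicOpen _ x hx).1 (hb.ge hx)

theorem isNilpotent_of_app_eq_zero [Surjective i] {V : X'.Opens} (hV : IsCompact (V : Set X'))
    {a : Γ(X', V)} (ha : i.app V a = 0) : IsNilpotent a := by
  refine (Scheme.isNilpotent_iff_basicOpen_eq_bot_of_isCompact hV a).2 ?_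
  exact preimage_injective i (by
    rw [i.preimage_basicOpen a, ha, Scheme.basicOpen_zero]; rfl)

variable {n : ℕ} (hu : IsUnit (n : Γ(X, ⊤)))

include hu in
theorem isUnit_natCast (U : X.Opens) : IsUnit (n : Γ(X, U)) := by
  simpa using hu.map (X.presheaf.map (homOfLE (le_top : U ≤ ⊤)).op).hom

include hu in
theorem root_unique [Surjective i] {V : X'.Opens} {a b : Γ(X', V)} (ha : IsUnit a)
    (he : i.app V a = i.app V b) (hp : a ^ n = b ^ n) : a = b := by
  let S : Γ(X', V) := ∑ k ∈ Finset.range n, a ^ k * b ^ (n - 1 - k)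
  have hS : IsUnit S := by
    refine isUnit_of_app i ?_
    have hv : i.app V S = ∑ k ∈ Finset.range n, (i.app V a) ^ (n - 1) := by
      simp only [S, map_sum, map_mul, map_pow, ← he, ← pow_add]
      refine Finset.sum_congr rfl fun k hk => ?_
      rw [Finset.mem_range] at hk
      congr 1
      omega
    rw [hv, Finset.sum_const, Finset.card_range, nsmul_eq_mul]
    exact (isUnit_natCast hu _).mul ((ha.map (i.app V).hom).pow _)
  have h0 : S * (a - b) = 0 := by rw [geom_sum₂_mul, hp, sub_self]
  exact sub_eq_zero.1 (hS.mul_right_eq_zero.1 h0)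

theorem exists_unit_lift [IsClosedImmersion i] [Surjective i] {V : X'.Opens} (hV : IsAffineOpen V)
    {c : Γ(X, i ⁻¹ᵁ V)} (hc : IsUnit c) : ∃ a : Γ(X', V), IsUnit a ∧ i.app V a = c := by
  obtain ⟨a, ha⟩ := i.app_surjective V hV c
  exact ⟨a, isUnit_of_app i (ha ▸ hc), ha⟩

include hu in
theorem exists_root_affine [IsClosedImmersion i] [Surjective i] {V : X'.Opens} (hV : IsAffineOpen V)
    {c : Γ(X, i ⁻¹ᵁ V)} (hc : IsUnit c) (h : Γ(X', V)) (e : i.app V h = c ^ n) :
    ∃ a : Γ(X', V), IsUnit a ∧ i.app V a = c ∧ a ^ n = h := by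
  obtain ⟨a₀, ha₀, hac⟩ := exists_unit_lift i hV hc
  let P : Polynomial Γ(X', V) := Polynomial.X ^ n - Polynomial.C h
  have h1 : IsNilpotent (Polynomial.aeval a₀ P) := by
    refine isNilpotent_of_app_eq_zero i hV.isCompact ?_
    simp [P, hac, e]
  have h2 : IsUnit (Polynomial.aeval a₀ (Polynomial.derivative P)) := by
    refine isUnit_of_app i ?_
    simp only [P, map_sub, Polynomial.derivative_X_pow, Polynomial.derivative_C, sub_zero,
      map_mul, map_pow, Polynomial.aeval_X,
      map_natCast, hac]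
    exact (isUnit_natCast hu _).mul (hc.pow _)
  obtain ⟨r, ⟨hr, hr0⟩, -⟩ := Polynomial.existsUnique_nilpotent_sub_and_aeval_eq_zero h1 h2
  have hru : IsUnit r := by
    obtain ⟨v, hv⟩ := ha₀
    have := (hr.neg).isUnit_add_right_of_commute v.isUnit (Commute.all _ _)
    rwa [hv, neg_sub, sub_add_cancel] at this
  have hp : r ^ n = h := by simpa [P, sub_eq_zero] using hr0
  refine ⟨r, hru, ?_, hp⟩
  -- the image is congruent to `c` modulo nilpotents, with the same power
  have hm : IsNilpotent (c - i.app V r) := by simpa [hac] using hr.map (i.app V).hom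
  let Q : Polynomial Γ(X, i ⁻¹ᵁ V) := Polynomial.X ^ n - Polynomial.C (c ^ n)
  have q1 : IsNilpotent (Polynomial.aeval c Q) := by simp [Q]
  have q2 : IsUnit (Polynomial.aeval c (Polynomial.derivative Q)) := by
    simp only [Q, map_sub, Polynomial.derivative_C]
    simp only [Polynomial.derivative_X_pow, map_mul, sub_zero,
      map_pow, Polynomial.aeval_X, map_natCast, map_zero]
    exact (isUnit_natCast hu _).mul (hc.pow _)
  refine (Polynomial.existsUnique_nilpotent_sub_and_aeval_eq_zero q1 q2).unique ⟨hm, ?_⟩ ⟨by simp, by simp [Q]⟩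
  simp [Q, ← map_pow, hp, e]

theorem app_res {V W : X'.Opens} (h : W ≤ V) (a : Γ(X', V)) :
    i.app W (X'.presheaf.map (homOfLE h).op a) =
      X.presheaf.map (homOfLE (i.preimage_mono h)).op (i.app V a) := by
  simp only [← ConcreteCategory.comp_apply, Scheme.Hom.naturality]
  rfl

include hu in
/-- Units with a lifted `n`-th power have a unique lift with that power. -/
theorem exists_root [IsClosedImmersion i] [Surjective i] {V : X'.Opens} {c : Γ(X, i ⁻¹ᵁ V)} (hc : IsUnit c)
    (h : Γ(X', V)) (e : i.app V h = c ^ n) :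
    ∃ a : Γ(X', V), IsUnit a ∧ i.app V a = c ∧ a ^ n = h := by
  let ι := {W : X'.Opens // IsAffineOpen W ∧ W ≤ V}
  have loc : ∀ W : ι, ∃ a : Γ(X', W.1), IsUnit a ∧
      i.app W.1 a = X.presheaf.map (homOfLE (i.preimage_mono W.2.2)).op c ∧
      a ^ n = X'.presheaf.map (homOfLE W.2.2).op h := fun W =>
    exists_root_affine i hu W.2.1 (hc.map _) _ (by rw [app_res, e, map_pow])
  choose a ha hac hap using loc
  have hcov : V ≤ ⨆ W : ι, W.1 := fun x hx => by
    obtain ⟨W, hW, hxW, hle⟩ := exists_isAffineOpen_mem_and_subset hx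
    exact Opens.mem_iSup.2 ⟨⟨W, hW, hle⟩, hxW⟩
  obtain ⟨g, hg, -⟩ := X'.sheaf.existsUnique_gluing' (fun W : ι => W.1) V (fun W => homOfLE W.2.2) hcov a
    (fun W W' => by
      refine root_unique i hu ((ha W).map (X'.presheaf.map _).hom) ?_ ?_
      · erw [app_res, app_res, hac, hac]
        simp only [← ConcreteCategory.comp_apply, ← Functor.map_comp]
        rfl
      · erw [← map_pow, ← map_pow, hap, hap]
        show X'.presheaf.map (homOfLE inf_le_left).op _ = X'.presheaf.map (homOfLE inf_le_right).op _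
        simp only [← ConcreteCategory.comp_apply, ← Functor.map_comp]
        rfl)
  have hgc : i.app V g = c := by
    refine X.sheaf.eq_of_locally_eq' (fun W : ι => i ⁻¹ᵁ W.1) (i ⁻¹ᵁ V)
      (fun W => homOfLE (i.preimage_mono W.2.2)) (fun x hx => by
        obtain ⟨W, hW⟩ := Opens.mem_iSup.1 (hcov hx)
        exact Opens.mem_iSup.2 ⟨W, hW⟩) _ _ fun W => ?_
    exact (app_res i W.2.2 g).symm.trans ((congrArg _ (hg W)).trans (hac W))
  refine ⟨g, isUnit_of_app i (hgc ▸ hc), hgc, X'.sheaf.eq_of_locally_eq' (fun W : ι => W.1) V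
    (fun W => homOfLE W.2.2) hcov _ _ fun W => ?_⟩
  exact (map_pow (X'.presheaf.map (homOfLE W.2.2).op).hom g n).trans ((congrArg (· ^ n) (hg W)).trans (hap W))

end Groth.Agent.PicRootLib
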